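import Groth.Agent.LocAcycStalkLib.Main
import Groth.Agent.EtSmAcycLib.Nearby
import Groth.Agent.QfHensFiniteLib.Basic
import Groth.Agent.S0760
import Groth.Agent.S0712

/-!
# Vanishing cycles at smooth points
-/


set_option autoImplicit false
set_option linter.all false
set_option backward.isDefEq.respectTransparency false
set_option backward.isDefEq.respectTransparency.types false
set_option synthInstance.maxHeartbeats 400000
set_option maxHeartbeats 1000000

universe u

open CategoryTheory CategoryTheory.Limits CategoryTheory.Abelian AlgebraicGeometry Opposite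
open Groth.Agent Groth.Agent.EtShLib DescSecLib EtRpushStalkLib
open scoped TensorProduct

noncomputable section


namespace NearbySmLib

/-- A strictly henselian ring is the strict henselization of the local ring at its closed point. -/
theorem exists_sh_closedPoint (R : Type u) [CommRing R] [HenselianLocalRing R] [IsSepClosed (IsLocalRing.ResidueField R)] :
    ∃ (_ : Algebra ((Spec (CommRingCat.of R)).presheaf.stalk (IsLocalRing.closedPoint R)) R)
      (_ : IsLocalHom (algebraMap ((Spec (CommRingCat.of R)).presheaf.stalk (IsLocalRing.closedPoint R)) R))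
      (_ : Hensel.IsStrictHenselization ((Spec (CommRingCat.of R)).presheaf.stalk (IsLocalRing.closedPoint R)) R),
      Hens2.specOf (Spec (CommRingCat.of R)) (IsLocalRing.closedPoint R) R = 𝟙 _ := by
  let y : Spec (CommRingCat.of R) := IsLocalRing.closedPoint R
  let T := (Spec (CommRingCat.of R)).presheaf.stalk y
  letI : Algebra R T := (StructureSheaf.toStalk R y).hom.toAlgebra
  haveI : IsLocalization.AtPrime T (IsLocalRing.maximalIdeal R) := StructureSheaf.IsLocalization.to_stalk R y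
  let eT : R ≃ₐ[R] T := IsLocalization.atUnits R (IsLocalRing.maximalIdeal R).primeCompl (fun x hx => by
    by_contra h
    exact hx h)
  haveI := QfHensFiniteLib.isStrictHenselization_self R
  obtain ⟨aT, lT, hT, hmap⟩ := LocAcycBCLib.exists_sh_of_equiv eT.symm.toRingEquiv R
  refine ⟨aT, lT, hT, ?_⟩
  letI := aT
  show Spec.map (CommRingCat.ofHom (algebraMap T R)) ≫ (Spec (CommRingCat.of R)).fromSpecStalk y = _
  rw [Scheme.Spec_fromSpecStalk, ← Spec.map_comp, ← Spec.map_id]
  congr 1
  refine CommRingCat.hom_ext (RingHom.ext fun a => ?_)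
  show algebraMap T R (algebraMap R T a) = a
  rw [hmap]
  exact eT.symm.commutes a

/-- Locally constant sheaves on the smooth locus have no vanishing cycles. -/
theorem stalks_of_smooth_at {R : Type u} [CommRing R] [HenselianLocalRing R] [IsSepClosed (IsLocalRing.ResidueField R)]
    {X : Scheme.{u}} (f : X ⟶ Spec (CommRingCat.of R)) (U : X.Opens) [Smooth (U.ι ≫ f)] (u : U.toScheme)
    (huc : f.base (U.ι.base u) = ((IsLocalRing.closedPoint R : PrimeSpectrum R) : ↥(Spec (CommRingCat.of R))))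
    {N : ℕ} (hN : IsUnit (N : R)) (F : EtCoh.Ab X) (hF : EtRest.IsLocallyConstant F) (hFN : EtCoh.KilledBy N F)
    {Ω : Type u} [Field Ω] [IsSepClosed Ω] (τ : R →+* Ω) {Xt : Scheme.{u}} (h : Xt ⟶ X)
    (ft : Xt ⟶ Spec (CommRingCat.of Ω)) (ct : IsPullback h ft f (Spec.map (CommRingCat.ofHom τ)))
    {K : Type u} [Field K] [IsSepClosed K] (ξ : Spec (CommRingCat.of K) ⟶ X) (hu : ξ.base default = U.ι.base u) :
    IsIso ((stk (A := AddCommGrpCat.{u + 1}) ξ).map ((EtCoh.pullPushAdj h).unit.app F)) ∧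
      ∀ q : ℕ, 0 < q → IsZero ((stk (A := AddCommGrpCat.{u + 1}) ξ).obj
        ((EtCoh.Rpush h q).obj ((EtCoh.pull h).obj F))) := by
  haveI : IsAffineHom h := MorphismProperty.of_isPullback ct.flip inferInstance
  obtain ⟨aS, lS, hS, hspec⟩ := exists_sh_closedPoint R
  letI := aS
  haveI := lS
  haveI := hS
  obtain ⟨RX, _, _, _, _, _, _, hXU, hX, hgp⟩ := LocAcycStalkLib.exists_strictLocal U.ι u
  haveI := hXU
  haveI := hX
  haveI : HenselianLocalRing RX := hX.henselian
  haveI : IsSepClosed (IsLocalRing.ResidueField RX) := hX.isSepClosure.sep_closed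
  let g := Hens2.specOf X (U.ι.base u) RX
  letI : Algebra R RX := (Spec.preimage (g ≫ f)).hom.toAlgebra
  have hφ : Spec.map (CommRingCat.ofHom (algebraMap R RX)) = g ≫ f := Spec.map_preimage _
  haveI : IsLocalHom (algebraMap R RX) := (IsLocalRing.isLocalHom_iff_comap_closedPoint _).2 (by
    show (Spec.map (CommRingCat.ofHom (algebraMap R RX))).base (IsLocalRing.closedPoint RX) = _
    rw [hφ, Scheme.Hom.comp_apply]
    exact (congrArg f.base (LocAcycStalkLib.specOf_closedPoint (U.ι.base u) RX)).trans huc)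
  letI : Algebra R Ω := τ.toAlgebra
  have hla : SGA4h.IsLARel (U.ι ≫ f) ((EtCoh.pull U.ι).obj F) := fun x RS RY _ _ _ _ _ _ _ _ _ _ _ _ hc Ω' _ _ _ _ q => by
    have hUlc : EtRest.IsLocallyConstant ((EtCoh.pull U.ι).obj F) :=
      (Groth.Agent.EtShLib.isLC_iff _).2 (((Groth.Agent.EtShLib.isLC_iff F).1 hF).pull (f := U.ι))
    have hb := Groth.Agent.S0760.result (U.ι ≫ f)
      (fun x RS RY _ _ _ _ _ _ _ _ _ _ _ _ hc Ω' _ _ _ n hn =>
        ⟨fun q hq => (Groth.Agent.S0712.result (U.ι ≫ f) x RS RY hc Ω' n hn q).1 hq,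
          (Groth.Agent.S0712.result (U.ι ≫ f) x RS RY hc Ω' n hn 0).2⟩)
      ((EtCoh.pull U.ι).obj F) hUlc (fun Ω'' _ _ η s => by
        refine ⟨N, Nat.pos_of_ne_zero (fun h0 => ?_), ?_, ?_⟩
        · subst h0
          rw [Nat.cast_zero] at hN
          exact not_isUnit_zero hN
        · have h1 := (hN.map (Spec.preimage (η ≫ U.ι ≫ f)).hom).ne_zero
          rwa [map_natCast] at h1
        · refine (CdOneLib.stk_map_nsmul ((EtCoh.pull U.ι).obj F) η N s).symm.trans ?_
          haveI : (EtCoh.pull U.ι).Additive := (EtCoh.pullPushAdj _).left_adjoint_additive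
          rw [CdPrimeLib.nsmul_id_map (EtCoh.pull U.ι) ((EtBcKilledLib.killed_iff F).1 hFN), Functor.map_zero]
          rfl) x RS RY hc Ω' q
    exact (Function.Bijective.of_comp_iff' (ConcreteCategory.bijective_of_isIso
      ((EtCoh.HF (Spec (CommRingCat.of (EtRest.vcRing RS RY Ω'))) q).map
        (((EtCore.pullComp (Spec.map (CommRingCat.ofHom (algebraMap RY (EtRest.vcRing RS RY Ω'))))
          (Hens2.specOf U.toScheme x RY)).symm ≪≫ EtCore.pullCongr rfl).app ((EtCoh.pull U.ι).obj F)).hom)) _).1 hb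
  have hb := fun q => LocAcycStalkLib.bijective_of_isLARel (U.ι ≫ f) ((EtCoh.pull U.ι).obj F) hla u
    (IsLocalRing.closedPoint R) (by rw [Scheme.Hom.comp_apply]; exact huc) R RX
    (by rw [hφ, hspec, Category.comp_id]; simp only [g, ← hgp, Category.assoc]) Ω q
  let π : Spec (CommRingCat.of (RX ⊗[R] Ω)) ⟶ Spec (CommRingCat.of RX) :=
    Spec.map (CommRingCat.ofHom (algebraMap RX (RX ⊗[R] Ω)))
  let πΩ : Spec (CommRingCat.of (RX ⊗[R] Ω)) ⟶ Spec (CommRingCat.of Ω) :=
    Spec.map (CommRingCat.ofHom Algebra.TensorProduct.includeRight.toRingHom)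
  have sqb : IsPullback π πΩ (g ≫ f) (Spec.map (CommRingCat.ofHom τ)) :=
    hφ ▸ isPullback_SpecMap_of_isPushout _ _ _ _ (CommRingCat.isPushout_tensorProduct R RX Ω)
  let b := ct.lift (π ≫ g) πΩ ((Category.assoc _ _ _).trans sqb.w)
  have sq : IsPullback b π h g :=
    IsPullback.of_right (((ct.lift_snd (π ≫ g) πΩ ((Category.assoc _ _ _).trans sqb.w)).symm ▸ sqb.flip))
      (ct.lift_fst _ _ _) ct.flip
  obtain ⟨C⟩ := EtRpushStalkLib.exists_chart (U.ι.base u) RX
  let e₀ : (EtCoh.pull (Hens2.specOf U.toScheme u RX)).obj ((EtCoh.pull U.ι).obj F) ≅ (EtCoh.pull g).obj F :=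
    asIso ((etSys.c (Hens2.specOf U.toScheme u RX) U.ι g hgp).app F)
  obtain ⟨e⟩ := nonempty_stk_iso_of_eq (A := AddCommGrpCat.{u + 1}) (ξ := closedPt RX ≫ g) (ξ' := ξ) (by
    rw [hu]
    rw [Scheme.Hom.comp_apply]
    refine ((congrArg g.base ?_).trans (LocAcycStalkLib.specOf_closedPoint (U.ι.base u) RX)).symm
    exact SubmDescLib.closedPoint_map (IsLocalRing.residue RX) IsLocalRing.residue_surjective _)
  refine ⟨?_, fun q hq => ?_⟩
  · haveI := LocAcycStalkLib.isIso_unit_stk h sq C (F) (CovDevLib.bijective_Hpull_of_iso_obj π e₀ 0 (hb 0))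
    rw [← NatIso.naturality_1 e ((EtCoh.pullPushAdj h).unit.app (F))]
    infer_instance
  · haveI := EtShLib.subsingleton_H RX ((EtCoh.pull g).obj (F)) q hq
    haveI : Subsingleton (EtCoh.H _ ((EtCoh.pull π).obj ((EtCoh.pull g).obj (F))) q) :=
      (CovDevLib.bijective_Hpull_of_iso_obj π e₀ q (hb q)).2.subsingleton
    obtain ⟨e'⟩ := EtRpushStalkLib.nonempty_iso h sq C q
    let E : (EtCoh.pull b).obj ((EtCoh.pull h).obj (F)) ≅
        (EtCoh.pull π).obj ((EtCoh.pull g).obj (F)) :=
      asIso ((etSys.c b h (b ≫ h) rfl).app _) ≪≫ (asIso ((etSys.c π g (b ≫ h) sq.w.symm).app _)).symm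
    refine IsZero.of_iso ?_ (e.symm.app _ ≪≫ e'.app _ ≪≫ (extFunctorObj _ q).mapIso E)
    exact AddCommGrpCat.isZero_of_subsingleton (AddCommGrpCat.of
      (EtCoh.H _ ((EtCoh.pull π).obj ((EtCoh.pull g).obj (F))) q))


end NearbySmLib
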